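import Groth.Agent.Refl70.Alg
import Groth.Agent.RefX.Ext
import Groth.Agent.TFCurvLib.AssTF
import Groth.Agent.FibDim.RelDim
import Groth.Agent.AffineNhd.Glue
import Groth.Agent.QCoh.LocFree
import Groth.Agent.H23.RatSec
import Groth.Agent.H23.DblAlg
import Groth.Agent.InvUfdLib.Extend
import Groth.Agent.S10834
import Groth.Prelude.Def_TorSh

/-!
# Reflexive sheaves on regular integral schemes
-/

universe u

set_option backward.isDefEq.respectTransparency false
set_option backward.isDefEq.respectTransparency.types false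
set_option linter.style.haveILetI false

open CategoryTheory AlgebraicGeometry TopologicalSpace Opposite

namespace Groth.Agent.Refl70

variable {X : Scheme.{u}} {F : X.Modules}

/-- Restriction is bijective away from points of dimension at least two. -/
def IsNormal (F : X.Modules) : Prop :=
  ∀ (U V : X.Opens) (hVU : V ≤ U), (∀ x : X, x ∈ U → x ∉ V → (2 : WithBot ℕ∞) ≤ ringKrullDim (X.presheaf.stalk x)) →
    Function.Bijective (F.presheaf.map (homOfLE hVU).op)

theorem ringKrullDim_stalk_mono [IsLocallyNoetherian X] {z x : X} (h : z ⤳ x) :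
    ringKrullDim (X.presheaf.stalk z) ≤ ringKrullDim (X.presheaf.stalk x) := by
  rcases eq_or_ne z x with rfl | hne
  · exact le_rfl
  · exact (FibDim.ringKrullDim_stalk_lt h hne).le

theorem two_le_depth (x : X) [IsRegularLocalRing (X.presheaf.stalk x)]
    (h : (2 : WithBot ℕ∞) ≤ ringKrullDim (X.presheaf.stalk x)) :
    (2 : ℕ∞) ≤ LocCoh.depth (X.presheaf.stalk x) (X.presheaf.stalk x) := by
  rw [← S10834.depth_of_regular] at h
  exact WithBot.coe_le_coe.1 (show ((2 : ℕ∞) : WithBot ℕ∞) ≤ _ from h)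

theorem dim_le_of_not {n : ℕ} (x : X) [IsRegularLocalRing (X.presheaf.stalk x)]
    (h : ¬ ((n + 1 : ℕ) : WithBot ℕ∞) ≤ ringKrullDim (X.presheaf.stalk x)) :
    ringKrullDim (X.presheaf.stalk x) ≤ (n : ℕ) := by
  rw [← S10834.depth_of_regular] at h ⊢
  generalize LocCoh.depth (X.presheaf.stalk x) (X.presheaf.stalk x) = d at h ⊢
  induction d using ENat.recTopCoe with
  | top => exact absurd (WithBot.coe_le_coe.2 le_top) h
  | coe a =>
    have h' : a ≤ n := by
      by_contra hc
      exact h (WithBot.coe_le_coe.2 (show ((n + 1 : ℕ) : ℕ∞) ≤ (a : ℕ∞) by exact_mod_cast (by omega : n + 1 ≤ a)))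
    exact WithBot.coe_le_coe.2 (show ((a : ℕ) : ℕ∞) ≤ (n : ℕ∞) by exact_mod_cast h')

/-- An open `O` with `U ⊓ O = V` whose complement consists of specializations of `U \ V`. -/
theorem exists_open_inter [IsLocallyNoetherian X] {U V : X.Opens} (hVU : V ≤ U) :
    ∃ O : X.Opens, U ⊓ O = V ∧ ∀ x ∉ O, ∃ z ∈ U, z ∉ V ∧ z ⤳ x := by
  let O : X.Opens := ⟨(V : Set X) ∪ (closure ((U : Set X) \ V))ᶜ, V.isOpen.union isClosed_closure.isOpen_compl⟩
  refine ⟨O, le_antisymm ?_ (le_inf hVU fun p hp => Or.inl hp), fun x hx => ?_⟩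
  · rintro p ⟨hpU, hp | hp⟩
    · exact hp
    · by_contra hpV
      exact hp (subset_closure ⟨hpU, hpV⟩)
  · have hx' : x ∈ closure ((U : Set X) \ V) := by
      by_contra h
      exact hx (Or.inr h)
    obtain ⟨_, ⟨W, hW, rfl⟩, hxW, -⟩ :=
      X.isBasis_affineOpens.exists_subset_of_mem_open (Set.mem_univ x) isOpen_univ
    have hxW' : x ∈ closure (((W ⊓ U : X.Opens) : Set X) \ (V : Set X)) := by
      refine closure_mono ?_ (W.isOpen.inter_closure ⟨hxW, hx'⟩)
      exact fun p hp => ⟨⟨hp.1, hp.2.1⟩, hp.2.2⟩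
    haveI : IsNoetherianRing Γ(X, W) := IsLocallyNoetherian.component_noetherian ⟨W, hW⟩
    haveI : NoetherianSpace ↥(W : Set X) := AlgebraicGeometry.noetherianSpace_of_isAffineOpen W hW
    have hc : IsCompact ((W ⊓ U : X.Opens) : Set X) := by
      have h1 : IsCompact (Subtype.val ⁻¹' (U : Set X) : Set ↥(W : Set X)) := NoetherianSpace.isCompact _
      have h2 := h1.image continuous_subtype_val
      rwa [Subtype.image_preimage_coe] at h2
    obtain ⟨z, hz, hzV, hzx⟩ := AffineNhd.exists_specializes_of_mem_closure_diff hc hxW'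
    exact ⟨z, hz.2, hzV, hzx⟩

theorem app_g_f (S : ShortComplex X.Modules) (W : X.Opens) (t : Γ(S.X₁, W)) : S.g.app W (S.f.app W t) = 0 := by
  exact congrArg (fun k : S.X₁ ⟶ S.X₃ => Scheme.Modules.Hom.app k W t) S.zero

theorem exists_app_eq {S : ShortComplex X.Modules} (hS : S.ShortExact) (W : X.Opens) (e : Γ(S.X₂, W))
    (he : S.g.app W e = 0) : ∃ s, S.f.app W s = e := by
  haveI := hS.mono_f
  let G := Scheme.Modules.toPresheaf X ⋙ (CategoryTheory.evaluation _ Ab).obj (op W)
  haveI : G.PreservesZeroMorphisms := ⟨fun _ _ => rfl⟩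
  haveI : Limits.PreservesLimits ((CategoryTheory.evaluation (Opens X)ᵒᵖ AddCommGrpCat.{u}).obj (op W)) :=
    ⟨fun {J} _ => Limits.evaluation_preservesLimitsOfShape (op W)⟩
  haveI : Limits.PreservesLimits G := Limits.comp_preservesLimits _ _
  have := hS.exact.map_of_mono_of_preservesKernel G inferInstance inferInstance
  exact (ShortComplex.ab_exact_iff _).1 this e he

variable [IsLocallyNoetherian X] (hreg : ∀ x : X, IsRegularLocalRing (X.presheaf.stalk x))

include hreg in
theorem isNormal_of_isReflexive (hF : Coh.IsCoh F) (hr : RefHull.IsReflexive F) : IsNormal F := by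
  intro U V hVU hdim
  obtain ⟨O, hO, hspec⟩ := exists_open_inter hVU
  have hext := RefX.extendsAcross_reflexive (U := O) hF hr fun x hx => by
    haveI := hreg x
    obtain ⟨z, hzU, hzV, hzx⟩ := hspec x hx
    exact two_le_depth x ((hdim z hzU hzV).trans (ringKrullDim_stalk_mono hzx))
  subst hO
  exact hext U

variable [IsIntegral X]

theorem isTorsionFree_of_isReflexive (hF : Coh.IsCoh F) (hr : RefHull.IsReflexive F) : TorSh.IsTorsionFree F := by
  intro x
  haveI := QCoh.finite_stalk_of_isFT hF.1 hF.2 x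
  haveI : Module.IsReflexive (X.presheaf.stalk x) (F.presheaf.stalk x) := (RefX.isReflexive_iff hF).1 hr x
  obtain ⟨n, m, f, g, hf, -⟩ := CAlgOdd.Refl.exists_exact_free (R := X.presheaf.stalk x) (M := F.presheaf.stalk x)
  exact CAlgOdd.Refl.isTorsionFree_of_injective f hf

theorem eq_genericPoint_of_isField {y : X} (hy : IsField (X.presheaf.stalk y)) : y = genericPoint X :=
  (TFCurvLib.eq_of_specializes_of_isField hy (genericPoint_specializes y)).symm

/-- A section of a torsion-free module vanishing at the generic point is zero. -/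
theorem eq_zero_of_germ_generic (hF : Coh.IsQCoh F) (ht : TorSh.IsTorsionFree F) {U : X.Opens} (s : Γ(F, U))
    (h : ∀ hη : genericPoint X ∈ U, F.presheaf.germ U _ hη s = 0) : s = 0 :=
  TFCurvLib.eq_zero_of_germ_isField hF ht s fun y hy hyf => by
    obtain rfl := eq_genericPoint_of_isField hyf
    exact h hy

theorem stalkSpecializes_generic_injective (hF : Coh.IsQCoh F) (ht : TorSh.IsTorsionFree F) (x : X) :
    Function.Injective (F.presheaf.stalkSpecializes (genericPoint_specializes x)) := by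
  refine (injective_iff_map_eq_zero _).2 fun m hm => ?_
  obtain ⟨U, hx, s, rfl⟩ := TopCat.Presheaf.exists_germ_eq F.presheaf m
  rw [TopCat.Presheaf.germ_stalkSpecializes_apply] at hm
  rw [eq_zero_of_germ_generic hF ht s fun _ => hm, map_zero]

/-- A submodule of a normal module with torsion-free quotient is normal. -/
theorem isNormal_of_sub (S : ShortComplex X.Modules) (hS : S.ShortExact) (hQ : Coh.IsQCoh S.X₃)
    (hn : IsNormal S.X₂) (ht : TorSh.IsTorsionFree S.X₃) : IsNormal S.X₁ := by
  intro U V hVU hdim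
  have hb := hn U V hVU hdim
  haveI := hS.mono_f
  have hinj : ∀ W, Function.Injective (S.f.app W) := fun W => QCoh.app_injective S.f W
  have nat : ∀ s, S.f.app V (S.X₁.presheaf.map (homOfLE hVU).op s) =
      S.X₂.presheaf.map (homOfLE hVU).op (S.f.app U s) := fun s => AModX.app_res S.f hVU s
  refine ⟨fun a b e => hinj U (hb.1 (by rw [← nat, ← nat, e])), fun t => ?_⟩
  obtain ⟨e, he⟩ := hb.2 (S.f.app V t)
  have hge : S.g.app U e = 0 := by
    refine eq_zero_of_germ_generic hQ ht _ fun hη => ?_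
    have hηV : genericPoint X ∈ V := by
      by_contra h
      have h2 := hdim _ hη h
      rw [ringKrullDim_eq_zero_of_isField (Field.toIsField X.functionField)] at h2
      exact absurd h2 (by decide)
    have h1 : S.g.app V (S.X₂.presheaf.map (homOfLE hVU).op e) = 0 := by
      rw [he]; exact app_g_f S V t
    have h2 : S.g.app V (S.X₂.presheaf.map (homOfLE hVU).op e) = S.X₃.presheaf.map (homOfLE hVU).op (S.g.app U e) :=
      AModX.app_res S.g hVU e
    rw [← TopCat.Presheaf.germ_res_apply S.X₃.presheaf (homOfLE hVU) _ hηV, ← h2, h1, map_zero]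
  obtain ⟨s, hs⟩ := exists_app_eq hS U e hge
  exact ⟨s, hinj V (by rw [nat, hs, he])⟩

include hreg in
/-- Torsion-free normal modules are reflexive. -/
theorem isReflexive_of_isNormal (hF : Coh.IsCoh F) (ht : TorSh.IsTorsionFree F) (hn : IsNormal F) :
    RefHull.IsReflexive F := by
  have hdual := RefX.isCoh_dual (RefX.isCoh_dual hF)
  let φ := RefHull.bidualMap F
  let U₀ : X.Opens := ⟨_, MiscSh16.isOpen_bijective_locus hF hdual φ⟩
  have hU₀ : ∀ x ∉ U₀, (2 : WithBot ℕ∞) ≤ ringKrullDim (X.presheaf.stalk x) := fun x hx => by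
    by_contra h2
    refine hx ((RefX.stalkMap_bidual_bijective_iff hF x).2 ?_)
    haveI := hreg x
    haveI := QCoh.finite_stalk_of_isFT hF.1 hF.2 x
    haveI := ht x
    have hd : ringKrullDim (X.presheaf.stalk x) ≤ (1 : ℕ) := dim_le_of_not x h2
    haveI := free_of_isTorsionFree (M := F.presheaf.stalk x) hd
    show Module.IsReflexive (X.presheaf.stalk x) (F.presheaf.stalk x)
    infer_instance
  have hrd : RefHull.IsReflexive (RefHull.dual (RefHull.dual F)) := (RefX.isReflexive_iff hdual).2 fun x => by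
    haveI := QCoh.finite_stalk_of_isFT (RefX.isCoh_dual hF).1 (RefX.isCoh_dual hF).2 x
    haveI := CAlgOdd.Refl.isReflexive_dual (R := X.presheaf.stalk x) ((RefHull.dual F).presheaf.stalk x)
    exact Module.equiv (RefX.dualStalk (QCoh.isCoh_iff_isFP.1 (RefX.isCoh_dual hF)) x).symm
  have hn' := isNormal_of_isReflexive hreg hdual hrd
  refine Scheme.Modules.Hom.isIso_iff_isIso_app.2 fun W => (ConcreteCategory.isIso_iff_bijective _).2 ?_
  have hb := hn (W) (W ⊓ U₀) inf_le_left fun x h1 h2 => hU₀ x fun h => h2 ⟨h1, h⟩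
  have hb' := hn' (W) (W ⊓ U₀) inf_le_left fun x h1 h2 => hU₀ x fun h => h2 ⟨h1, h⟩
  have hmid : Function.Bijective (φ.app (W ⊓ U₀)) := by
    exact TopCat.Presheaf.app_bijective_of_stalkFunctor_map_bijective
      (F := ⟨F.presheaf, F.isSheaf⟩) (G := ⟨(RefHull.dual (RefHull.dual F)).presheaf, (RefHull.dual (RefHull.dual F)).isSheaf⟩)
      ⟨φ.mapPresheaf⟩ (W ⊓ U₀) fun x hx => hx.2
  refine (Function.Bijective.of_comp_iff' hb' _).1 ?_
  have e : (RefHull.dual (RefHull.dual F)).presheaf.map (homOfLE (inf_le_left : W ⊓ U₀ ≤ W)).op ∘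
        (φ.app W : Γ(F, W) → _) = (φ.app (W ⊓ U₀) : Γ(F, W ⊓ U₀) → _) ∘ F.presheaf.map (homOfLE inf_le_left).op :=
    funext fun s => (AModX.app_res φ inf_le_left s).symm
  rw [e]
  exact hmid.comp hb

/-- The generic stalk of a generically invertible module is one-dimensional. -/
theorem exists_generic_equiv (h : RefHull.GenInvertible F) :
    Nonempty (X.functionField ≃ₗ[X.presheaf.stalk (genericPoint X)] F.presheaf.stalk (genericPoint X)) := by
  obtain ⟨U, hd, hinv⟩ := h
  have hη : genericPoint X ∈ U :=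
    ((genericPoint_spec X).mem_open_set_iff U.isOpen).2 (by simpa using hd.nonempty)
  obtain ⟨W, hW, e, he⟩ := InvX.exists_frame hinv ⟨genericPoint X, hη⟩
  have hb := (InvUfdLib.isFrame_of_restrict U.ι he).germ_bijective (x := genericPoint X) ⟨_, hW, rfl⟩
  exact ⟨LinearEquiv.ofBijective (LinearMap.toSpanSingleton _ _ _) hb⟩

include hreg in
theorem isInvertible_of_isReflexive (hF : Coh.IsCoh F) (hr : RefHull.IsReflexive F)
    (hrk : RefHull.GenInvertible F) : PicF.IsInvertible F := by
  have ht := isTorsionFree_of_isReflexive hF hr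
  obtain ⟨e⟩ := exists_generic_equiv hrk
  intro x
  haveI := hreg x
  haveI := QCoh.finite_stalk_of_isFT hF.1 hF.2 x
  haveI : Module.IsReflexive (X.presheaf.stalk x) (F.presheaf.stalk x) := (RefX.isReflexive_iff hF).1 hr x
  haveI := (RegUFD.ufd (X.presheaf.stalk x)).2
  let g : F.presheaf.stalk x →ₗ[X.presheaf.stalk x] X.functionField :=
    { toFun := fun m => e.symm (F.presheaf.stalkSpecializes (genericPoint_specializes x) m)
      map_add' := fun a b => by simp
      map_smul' := fun r m => by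
        rw [H23.ZeroSec.stalkSpecializes_smul, map_smul]
        rfl }
  haveI := free_of_isReflexive_of_embedding X.functionField g
    (e.symm.injective.comp (stalkSpecializes_generic_injective hF.1 ht x))
  obtain ⟨U, n, hxU, ⟨i⟩⟩ := QCoh.exists_free_nhd_of_free_stalk (QCoh.isCoh_iff_isFP.1 hF) x
  refine ⟨U, hxU, ?_⟩
  have hηU : genericPoint X ∈ U := (genericPoint_specializes x).mem_open U.isOpen hxU
  obtain ⟨_, ⟨W, hW, rfl⟩, hxW, hWU⟩ := X.isBasis_affineOpens.exists_subset_of_mem_open hxU U.isOpen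
  obtain ⟨l⟩ := QCoh.free_sections (M := F) hW hWU i
  have h1 := QCoh.finrank_stalk_of_freeChart hW hF.1 l (x := genericPoint X)
    ((genericPoint_specializes x).mem_open W.isOpen hxW)
  rw [← e.finrank_eq, Module.finrank_self] at h1
  subst h1
  exact ⟨i ≪≫ Limits.coproductUniqueIso _⟩

include hreg in
theorem three_le_dim (hF : Coh.IsCoh F) (hr : RefHull.IsReflexive F) (x : X)
    (hx : ¬ Module.Free (X.presheaf.stalk x) (F.presheaf.stalk x)) :
    (3 : WithBot ℕ∞) ≤ ringKrullDim (X.presheaf.stalk x) := by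
  haveI := hreg x
  haveI := QCoh.finite_stalk_of_isFT hF.1 hF.2 x
  haveI : Module.IsReflexive (X.presheaf.stalk x) (F.presheaf.stalk x) := (RefX.isReflexive_iff hF).1 hr x
  by_contra h3
  exact hx (free_of_isReflexive (dim_le_of_not x h3))

end Groth.Agent.Refl70
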