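import Groth.Agent.CAlgOdd.Reflexive
import Groth.Agent.RegLoc6.Serre
import Groth.Agent.RegUFD.Basic
import Mathlib.RingTheory.UniqueFactorizationDomain.GCDMonoid

/-!
# Reflexive and torsion-free modules over low-dimensional regular local rings and over UFDs
-/

universe u

set_option linter.style.haveILetI false

namespace Groth.Agent.Refl70

open RegLoc6

variable {R : Type u} [CommRing R] [IsRegularLocalRing R] {M : Type u} [AddCommGroup M] [Module R M]

theorem spanFinrank_le {d : ℕ} (hd : ringKrullDim R ≤ d) : (IsLocalRing.maximalIdeal R).spanFinrank ≤ d := by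
  rw [← IsRegularLocalRing.spanFinrank_maximalIdeal] at hd
  exact_mod_cast hd

/-- A submodule of a finite free module over a regular local ring of dimension at most one is free. -/
theorem free_of_embedding [Module.Finite R M] (hd : ringKrullDim R ≤ (1 : ℕ)) {n : ℕ}
    (f : M →ₗ[R] (Fin n → R)) (hf : Function.Injective f) : Module.Free R M := by
  let π := (LinearMap.range f).mkQ
  have hQ : PdLE R 1 ((Fin n → R) ⧸ LinearMap.range f) :=
    pdLE_mono (spanFinrank_le hd) (pdLE_of_isRegularLocalRing R _)
  have hK := (pdLE_succ_iff π (Submodule.mkQ_surjective _)).1 hQ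
  let e : LinearMap.ker π ≃ₗ[R] M :=
    (LinearEquiv.ofEq _ _ (Submodule.ker_mkQ _)).trans (LinearEquiv.ofInjective f hf).symm
  haveI : Module.Projective R M := pdLE_zero_iff.1 (pdLE_of_equiv e hK)
  exact Module.free_of_flat_of_isLocalRing

/-- Torsion-free finite modules over regular local rings of dimension at most one are free. -/
theorem free_of_isTorsionFree [IsDomain R] [Module.Finite R M] [Module.IsTorsionFree R M]
    (hd : ringKrullDim R ≤ (1 : ℕ)) : Module.Free R M := by
  obtain ⟨n, f, hf⟩ := Groth.Agent.CAlgMisc.exists_injective_free R M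
  exact free_of_embedding hd f hf

/-- Reflexive finite modules over regular local rings of dimension at most two are free. -/
theorem free_of_isReflexive [IsDomain R] [Module.Finite R M] [Module.IsReflexive R M]
    (hd : ringKrullDim R ≤ (2 : ℕ)) : Module.Free R M := by
  obtain ⟨n, m, f, g, hf, hfg⟩ := CAlgOdd.Refl.exists_exact_free (R := R) (M := M)
  let π := (LinearMap.range g).mkQ
  have hQ : PdLE R 2 ((Fin m → R) ⧸ LinearMap.range g) :=
    pdLE_mono (spanFinrank_le hd) (pdLE_of_isRegularLocalRing R _)
  have hI : PdLE R 1 (LinearMap.range g) :=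
    pdLE_of_equiv (LinearEquiv.ofEq _ _ (Submodule.ker_mkQ _)) ((pdLE_succ_iff π (Submodule.mkQ_surjective _)).1 hQ)
  have hK := (pdLE_succ_iff g.rangeRestrict g.surjective_rangeRestrict).1 hI
  let e : LinearMap.ker g.rangeRestrict ≃ₗ[R] M :=
    (LinearEquiv.ofEq _ _ ((LinearMap.ker_rangeRestrict g).trans (LinearMap.exact_iff.1 hfg))).trans
      (LinearEquiv.ofInjective f hf).symm
  haveI : Module.Projective R M := pdLE_zero_iff.1 (pdLE_of_equiv e hK)
  exact Module.free_of_flat_of_isLocalRing

/-- A reflexive finite module over a UFD which embeds in the fraction field is free. -/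
theorem free_of_isReflexive_of_embedding {A : Type u} [CommRing A] [IsDomain A] [UniqueFactorizationMonoid A]
    (K : Type u) [Field K] [Algebra A K] [IsFractionRing A K]
    {N : Type u} [AddCommGroup N] [Module A N] [Module.Finite A N] [Module.IsReflexive A N]
    (g : N →ₗ[A] K) (hg : Function.Injective g) : Module.Free A N := by
  classical
  let _ : StrongNormalizationMonoid A := UniqueFactorizationMonoid.strongNormalizationMonoid
  let _ : StrongNormalizedGCDMonoid A := UniqueFactorizationMonoid.toStrongNormalizedGCDMonoid A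
  obtain ⟨s, hs⟩ := Module.Finite.fg_top (R := A) (M := N)
  obtain ⟨b, hb⟩ := IsLocalization.exist_integer_multiples (nonZeroDivisors A) s (fun i => g i)
  choose! a ha using hb
  let D := s.gcd a
  by_cases hz : ∀ i ∈ s, a i = 0
  · have : ∀ i ∈ s, i = 0 := fun i hi => hg (by
      have h1 : (b : A) • g i = 0 := by rw [← ha i hi, hz i hi, map_zero]
      rw [map_zero]
      exact (smul_eq_zero.1 h1).resolve_left (nonZeroDivisors.coe_ne_zero b))
    haveI : Subsingleton N := subsingleton_of_forall_eq 0 fun x => by
      have hx : x ∈ Submodule.span A (s : Set N) := hs ▸ Submodule.mem_top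
      exact (Submodule.mem_bot A).1 (Submodule.span_le.2 (fun i hi => this i hi) hx)
    infer_instance
  push Not at hz
  obtain ⟨i₀, hi₀, ha₀⟩ := hz
  have hD : D ≠ 0 := fun h => ha₀ (Finset.gcd_eq_zero_iff.1 h i₀ hi₀)
  have hmem : ∀ x : N, ∃ c : A, algebraMap A K (D * c) = (b : A) • g x := by
    intro x
    have hx : x ∈ Submodule.span A (s : Set N) := hs ▸ Submodule.mem_top
    induction hx using Submodule.span_induction with
    | mem i hi =>
      obtain ⟨c, hc⟩ := Finset.gcd_dvd (f := a) hi
      exact ⟨c, by rw [← hc]; exact ha i hi⟩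
    | zero => exact ⟨0, by simp⟩
    | add x y _ _ h₁ h₂ =>
      obtain ⟨c, hc⟩ := h₁
      obtain ⟨c', hc'⟩ := h₂
      exact ⟨c + c', by rw [mul_add, map_add, hc, hc', map_add, smul_add]⟩
    | smul r x _ h₁ =>
      obtain ⟨c, hc⟩ := h₁
      refine ⟨r * c, ?_⟩
      rw [map_smul, smul_comm (b : A) r, ← hc, mul_left_comm, map_mul, Algebra.smul_def]
  choose h hh using hmem
  have hinj : ∀ {c c' : A}, algebraMap A K (D * c) = algebraMap A K (D * c') → c = c' := fun e =>
    mul_left_cancel₀ hD (IsFractionRing.injective A K e)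
  let h' : N →ₗ[A] A :=
    { toFun := h
      map_add' := fun x y => hinj (by rw [hh, map_add g, smul_add, mul_add, map_add, hh, hh])
      map_smul' := fun r x => hinj (by
        rw [hh, RingHom.id_apply, smul_eq_mul, mul_left_comm, map_mul _ r, hh, map_smul, smul_comm (b : A) r,
          Algebra.smul_def r]) }
  have hh' : Function.Injective h' := fun x y e => hg <| by
    have h1 := hh x
    rw [show h x = h y from e, hh] at h1
    exact (smul_right_injective K (nonZeroDivisors.coe_ne_zero b) h1).symm
  have key : ∀ φ : Module.Dual A N, ∃ c : A, φ = c • h' := by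
    intro φ
    have e : ∀ x y, φ x * h y = φ y * h x := fun x y => by
      have h1 : h' (h y • x) = h' (h x • y) := by rw [map_smul, map_smul]; exact mul_comm (h y) (h x)
      have h2 := congrArg φ (hh' h1)
      simp only [map_smul, smul_eq_mul] at h2
      linear_combination h2
    have hi : h i₀ ≠ 0 := fun e0 => ha₀ (IsFractionRing.injective A K (by
      rw [ha i₀ hi₀, ← hh i₀, e0, mul_zero]))
    have hn : normalize D = D := Finset.normalize_gcd
    have hdvd : h i₀ * D ∣ φ i₀ * D := by
      have hdv : h i₀ * D ∣ s.gcd fun i => φ i₀ * a i := Finset.dvd_gcd fun i hi' => ⟨φ i, by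
        have : a i = D * h i := IsFractionRing.injective A K (by rw [hh, ha i hi'])
        rw [this]
        linear_combination D * e i₀ i⟩
      rw [Finset.gcd_mul_left (f := a) (s := s) (a := φ i₀)] at hdv
      exact hdv.trans (mul_dvd_mul_right (normalize_dvd_iff.2 dvd_rfl) D)
    obtain ⟨c, hc⟩ := (mul_dvd_mul_iff_right hD).1 hdvd
    refine ⟨c, LinearMap.ext fun x => mul_left_cancel₀ hi ?_⟩
    show h i₀ * φ x = h i₀ * (c * h x)
    have := e i₀ x
    rw [hc] at this
    linear_combination -this
  have hbij : Function.Bijective (LinearMap.toSpanSingleton A (Module.Dual A N) h') := by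
    refine ⟨fun c c' e => ?_, fun φ => ?_⟩
    · have := LinearMap.congr_fun e i₀
      simp only [LinearMap.toSpanSingleton_apply, LinearMap.smul_apply, smul_eq_mul] at this
      exact mul_right_cancel₀ (fun e0 : h i₀ = 0 => ha₀ (IsFractionRing.injective A K (by
        rw [ha i₀ hi₀, ← hh i₀, e0, mul_zero]))) this
    · obtain ⟨c, rfl⟩ := key φ
      exact ⟨c, rfl⟩
  haveI : Module.Free A (Module.Dual A N) := Module.Free.of_equiv (LinearEquiv.ofBijective _ hbij)
  haveI : Module.Finite A (Module.Dual A N) := Module.Finite.equiv (LinearEquiv.ofBijective _ hbij)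
  exact Module.Free.of_equiv (Module.evalEquiv A N).symm

end Groth.Agent.Refl70
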